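import Cfsg.Agent.Lib.Solv.SelfCentralizing.Local
import Cfsg.Agent.S0112

/-!
The candidates from the classification of simple groups with `2`-group involution centralizers.
-/

set_option autoImplicit false
set_option linter.style.haveILetI false

namespace Cfsg.Agent.Solv.SelfCentralizing

/-- A group of exponent `p` given by an injective homomorphism has order at most `p ^ 2`. -/
theorem Prop'.card_le_of_hom {G A : Type*} [Group G] [Finite G] [CommGroup A] (hP : Prop' G) (p : ℕ)
    (hp : p.Prime) (f : A →* G) (hf : Function.Injective f) (hexp : ∀ a : A, a ^ p = 1) :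
    Nat.card A ≤ p ^ 2 := by
  rw [Nat.card_congr (MonoidHom.ofInjective hf).toEquiv]
  refine hP.rank p hp f.range ⟨⟨fun a b => Subtype.ext ?_⟩⟩ ?_
  · obtain ⟨a', ha⟩ := a.2
    obtain ⟨b', hb⟩ := b.2
    show (a : G) * b = b * a
    rw [← ha, ← hb, ← map_mul, ← map_mul, mul_comm]
  · rintro _ ⟨a, rfl⟩
    rw [← map_pow, hexp, map_one]

open Matrix in
/-- The upper unitriangular root group of `SL₂`. -/
def uni2 {F : Type*} [Field F] (a : F) : SpecialLinearGroup (Fin 2) F :=
  ⟨!![1, a; 0, 1], by simp [det_fin_two]⟩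

open Matrix in
/-- A root group of order `q ^ 2` in `SL₃`. -/
def uni3 {F : Type*} [Field F] (a : F × F) : SpecialLinearGroup (Fin 3) F :=
  ⟨!![1, a.1, a.2; 0, 1, 0; 0, 0, 1], by simp [det_fin_three]⟩

open Matrix in
theorem psl_two_bound {F : Type*} [Field F] [Fintype F] {n : ℕ} (hn : Fintype.card F = 2 ^ n)
    (hP : Prop' (ProjectiveSpecialLinearGroup (Fin 2) F)) : Fintype.card F ≤ 4 := by
  haveI : Finite (ProjectiveSpecialLinearGroup (Fin 2) F) :=
    Finite.of_surjective _ (QuotientGroup.mk'_surjective (Subgroup.center (SpecialLinearGroup (Fin 2) F)))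
  haveI : CharP F 2 := by
    obtain ⟨p, hp⟩ := CharP.exists F
    haveI := hp
    haveI : Fact p.Prime := ⟨CharP.char_is_prime F p⟩
    obtain ⟨k, hpp, hk⟩ := FiniteField.card F p
    rw [hn] at hk
    have h2 : p ∣ 2 ^ n := hk ▸ dvd_pow_self p k.ne_zero
    rwa [(Nat.prime_dvd_prime_iff_eq hpp Nat.prime_two).1 (hpp.dvd_of_dvd_pow h2)] at hp
  let f : Multiplicative F →* ProjectiveSpecialLinearGroup (Fin 2) F :=
    (QuotientGroup.mk' _).comp
      { toFun := fun a => uni2 (Multiplicative.toAdd a)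
        map_one' := by
          refine Subtype.ext ?_
          ext i j
          fin_cases i <;> fin_cases j <;> simp [uni2]
        map_mul' := fun a b => by
          refine Subtype.ext ?_
          show (uni2 (Multiplicative.toAdd a + Multiplicative.toAdd b)).1 =
            (uni2 (Multiplicative.toAdd a)).1 * (uni2 (Multiplicative.toAdd b)).1
          ext i j
          fin_cases i <;> fin_cases j <;> simp [uni2, Matrix.SpecialLinearGroup.coe_mul, Matrix.mul_apply, Fin.sum_univ_two, add_comm] }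
  have hf : Function.Injective f := (injective_iff_map_eq_one f).2 fun a ha => by
    obtain ⟨c, -, hc⟩ := Matrix.SpecialLinearGroup.mem_center_iff.1 ((QuotientGroup.eq_one_iff _).1 ha)
    have h := congrFun (congrFun hc 0) 1
    change (Matrix.scalar (Fin 2) c) 0 1 = (uni2 (Multiplicative.toAdd a)).1 0 1 at h
    simp [uni2, Matrix.scalar_apply] at h
    exact Multiplicative.toAdd.injective (by simpa using h.symm)
  have h := hP.card_le_of_hom 2 Nat.prime_two f hf fun a =>
    Multiplicative.toAdd.injective (by rw [toAdd_pow, toAdd_one, two_nsmul, CharTwo.add_self_eq_zero])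
  rwa [Nat.card_congr Multiplicative.toAdd, Nat.card_eq_fintype_card] at h

open Matrix in
theorem psl_three_not {F : Type*} [Field F] [Fintype F] (hn : Fintype.card F = 4) :
    ¬ Prop' (ProjectiveSpecialLinearGroup (Fin 3) F) := by
  intro hP
  haveI : Finite (ProjectiveSpecialLinearGroup (Fin 3) F) :=
    Finite.of_surjective _ (QuotientGroup.mk'_surjective (Subgroup.center (SpecialLinearGroup (Fin 3) F)))
  haveI : CharP F 2 := by
    obtain ⟨p, hp⟩ := CharP.exists F
    haveI := hp
    haveI : Fact p.Prime := ⟨CharP.char_is_prime F p⟩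
    obtain ⟨k, hpp, hk⟩ := FiniteField.card F p
    rw [hn] at hk
    have h2 : p ∣ 2 ^ 2 := by
      rw [show (2 : ℕ) ^ 2 = p ^ (k : ℕ) by rw [← hk]; rfl]
      exact dvd_pow_self p k.ne_zero
    rwa [(Nat.prime_dvd_prime_iff_eq hpp Nat.prime_two).1 (hpp.dvd_of_dvd_pow h2)] at hp
  let f : Multiplicative (F × F) →* ProjectiveSpecialLinearGroup (Fin 3) F :=
    (QuotientGroup.mk' _).comp
      { toFun := fun a => uni3 (Multiplicative.toAdd a)
        map_one' := by
          refine Subtype.ext ?_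
          ext i j
          fin_cases i <;> fin_cases j <;> simp [uni3]
        map_mul' := fun a b => by
          refine Subtype.ext ?_
          show (uni3 (Multiplicative.toAdd a + Multiplicative.toAdd b)).1 =
            (uni3 (Multiplicative.toAdd a)).1 * (uni3 (Multiplicative.toAdd b)).1
          ext i j
          fin_cases i <;> fin_cases j <;> simp [uni3, Matrix.SpecialLinearGroup.coe_mul, Matrix.mul_apply, Fin.sum_univ_three, add_comm] }
  have hf : Function.Injective f := (injective_iff_map_eq_one f).2 fun a ha => by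
    obtain ⟨c, -, hc⟩ := Matrix.SpecialLinearGroup.mem_center_iff.1 ((QuotientGroup.eq_one_iff _).1 ha)
    have h1 := congrFun (congrFun hc 0) 1
    have h2 := congrFun (congrFun hc 0) 2
    change (Matrix.scalar (Fin 3) c) 0 1 = (uni3 (Multiplicative.toAdd a)).1 0 1 at h1
    change (Matrix.scalar (Fin 3) c) 0 2 = (uni3 (Multiplicative.toAdd a)).1 0 2 at h2
    simp [uni3, Matrix.scalar_apply] at h1 h2
    exact Multiplicative.toAdd.injective (Prod.ext (by simpa using h1.symm) (by simpa using h2.symm))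
  have h := hP.card_le_of_hom 2 Nat.prime_two f hf fun a =>
    Multiplicative.toAdd.injective (by
      rw [toAdd_pow, toAdd_one, two_nsmul]
      exact Prod.ext (CharTwo.add_self_eq_zero _) (CharTwo.add_self_eq_zero _))
  rw [Nat.card_congr Multiplicative.toAdd, Nat.card_eq_fintype_card, Fintype.card_prod, hn] at h
  omega

/-- Frattini quotients of `2`-subgroups have order at most four. -/
theorem Prop'.frattini_le {G : Type*} [Group G] [Finite G] [IsSimpleGroup G]
    (hna : ¬ IsMulCommutative G) (hP : Prop' G) (T : Sylow 2 G) {Q : Subgroup G}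
    (hQ : Q ≤ (T : Subgroup G)) : Nat.card (↥Q ⧸ frattini ↥Q) ≤ 2 ^ 2 := by
  haveI : Fact (Nat.Prime 2) := ⟨Nat.prime_two⟩
  obtain ⟨t, e, h⟩ := hP.exists_four hna
  obtain ⟨a, b, hab, haT, hbT⟩ := exists_four_mem h T
  obtain ⟨n, hn⟩ := T.2.exists_card_eq
  have hQ2 : IsPGroup 2 Q := T.2.to_le hQ
  by_cases hn2 : n ≤ 2
  · refine (Nat.le_of_dvd Nat.card_pos (Subgroup.card_quotient_dvd_card _)).trans ?_
    exact ((Nat.le_of_dvd Nat.card_pos (Subgroup.card_dvd_of_le hQ)).trans_eq hn).trans
      (Nat.pow_le_pow_right two_pos hn2)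
  obtain ⟨A, hA⟩ : ∃ A : Subgroup (T : Subgroup G),
      A = Subgroup.centralizer ({⟨a, haT⟩, ⟨b, hbT⟩} : Set (T : Subgroup G)) := ⟨_, rfl⟩
  obtain ⟨ha1, hb1, hne, ha2, hb2, hc⟩ := id hab
  have hmem : ∀ w : (T : Subgroup G), w ∈ A ↔ (w : G) * a = a * w ∧ (w : G) * b = b * w := by
    intro w
    rw [hA, Subgroup.mem_centralizer_iff]
    constructor
    · intro h
      exact ⟨(congrArg Subtype.val (h _ (Or.inl rfl))).symm, (congrArg Subtype.val (h _ (Or.inr rfl))).symm⟩
    · rintro ⟨h1, h2⟩ y (rfl | rfl)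
      · exact Subtype.ext h1.symm
      · exact Subtype.ext h2.symm
  have hfour : ∀ w ∈ A, (w : G) = 1 ∨ (w : G) = a ∨ (w : G) = b ∨ (w : G) = a * b := fun w hw =>
    hP.four hab ((hmem w).1 hw).1 ((hmem w).1 hw).2
  have hcard : Nat.card A = 2 ^ 2 := by
    classical
    have hset : ((A : Set (T : Subgroup G))) =
        (({1, ⟨a, haT⟩, ⟨b, hbT⟩, ⟨a * b, mul_mem haT hbT⟩} : Finset (T : Subgroup G)) : Set _) := by
      ext w
      simp only [SetLike.mem_coe, Finset.coe_insert, Finset.coe_singleton, Set.mem_insert_iff,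
        Set.mem_singleton_iff]
      refine ⟨fun hw => ?_, fun hw => (hmem w).2 ?_⟩
      · rcases hfour w hw with h | h | h | h
        · exact Or.inl (Subtype.ext h)
        · exact Or.inr (Or.inl (Subtype.ext h))
        · exact Or.inr (Or.inr (Or.inl (Subtype.ext h)))
        · exact Or.inr (Or.inr (Or.inr (Subtype.ext h)))
      · rcases hw with rfl | rfl | rfl | rfl
        · simp
        · exact ⟨rfl, hc⟩
        · exact ⟨hc.symm, rfl⟩
        · refine ⟨?_, ?_⟩
          · show a * b * a = a * (a * b)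
            rw [mul_assoc, ← hc]
          · show a * b * b = b * (a * b)
            rw [← mul_assoc b, ← hc]
    rw [← SetLike.coe_sort_coe, Nat.card_coe_set_eq, hset, Set.ncard_coe_finset]
    have h1 : a * b ≠ 1 := fun h => hne (by
      calc a = a * (b * b) := by rw [← pow_two, hb2, mul_one]
        _ = b := by rw [← mul_assoc, h, one_mul])
    simp [Subtype.ext_iff, Ne.symm ha1, Ne.symm hb1, hne, Ne.symm h1, ha1, hb1]
  have hcent : Subgroup.centralizer (A : Set (T : Subgroup G)) = A := by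
    refine le_antisymm (fun w hw => ?_) (fun w hw => Subgroup.mem_centralizer_iff.2 fun y hy => ?_)
    · rw [hmem]
      rw [Subgroup.mem_centralizer_iff] at hw
      exact ⟨(congrArg Subtype.val (hw ⟨a, haT⟩ ((hmem _).2 ⟨rfl, hc⟩))).symm,
        (congrArg Subtype.val (hw ⟨b, hbT⟩ ((hmem _).2 ⟨hc.symm, rfl⟩))).symm⟩
    · obtain ⟨h1, h2⟩ := (hmem w).1 hw
      refine Subtype.ext ?_
      show (y : G) * w = w * y
      rcases hfour y hy with h | h | h | h <;> rw [h]
      · rw [one_mul, mul_one]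
      · exact h1.symm
      · exact h2.symm
      · exact ((show Commute a (w : G) from h1.symm).mul_left h2.symm).eq
  have hcl := Cfsg.Agent.S0112.result n hn A hcard hcent
  haveI : Group.IsNilpotent (T : Subgroup G) := T.2.isNilpotent
  obtain ⟨m, rfl⟩ : ∃ m, n = m + 3 := ⟨n - 3, by omega⟩
  have hlcs : (⊤ : Subgroup (T : Subgroup G)).lowerCentralSeries (m + 1) ≠ ⊥ := fun h => by
    have := Subgroup.lowerCentralSeries_eq_bot_iff_nilpotencyClass_le.1 h
    omega
  obtain ⟨c, hc'⟩ := exists_cyclic_index_two m hn hlcs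
  have hcidx : (Subgroup.zpowers c).index = 2 := by
    have h := Subgroup.card_mul_index (Subgroup.zpowers c)
    rw [Nat.card_zpowers, hc', hn, pow_succ 2 (m + 2)] at h
    exact mul_left_cancel₀ (by positivity) h
  -- intersect with `Q`
  obtain ⟨C, hC⟩ : ∃ C, C = (Subgroup.zpowers c).comap (Subgroup.inclusion hQ) := ⟨_, rfl⟩
  haveI : IsCyclic (Subgroup.zpowers c) := inferInstance
  have hCc : IsCyclic C := hC ▸ isCyclic_of_injective
    ((Subgroup.inclusion hQ).subgroupComap (Subgroup.zpowers c))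
    (fun x y hxy => Subtype.ext (Subgroup.inclusion_injective hQ (congrArg Subtype.val hxy)))
  obtain ⟨g, hg⟩ := hCc.exists_generator
  refine card_frattini_quot_le_of_cyclic_index hQ2 (g : Q) ?_
  have hle : C ≤ Subgroup.zpowers (g : Q) := fun w hw => by
    obtain ⟨i, hi⟩ := hg ⟨w, hw⟩
    exact ⟨i, congrArg Subtype.val hi⟩
  refine (Nat.le_of_dvd (Nat.pos_of_ne_zero Subgroup.index_ne_zero_of_finite)
    (Subgroup.index_dvd_of_le hle)).trans ?_
  rw [hC, Subgroup.index_comap]
  exact (Subgroup.relIndex_le_of_le_right le_top (by rw [Subgroup.relIndex_top_right, hcidx]; omega)).trans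
    (by rw [Subgroup.relIndex_top_right, hcidx])

theorem Prop'.not_suzuki {G : Type*} [Group G] [Finite G] [IsSimpleGroup G]
    (hna : ¬ IsMulCommutative G) (hP : Prop' G) (hS : Cfsg.IsSuzuki G) : False := by
  haveI : Fact (Nat.Prime 2) := ⟨Nat.prime_two⟩
  obtain ⟨-, m, -, hcard⟩ := hS
  have h3 : ¬ 3 ∣ Nat.card G := by
    obtain ⟨q, hq⟩ : ∃ q, q = 2 ^ (2 * m + 1) := ⟨_, rfl⟩
    have hq3 : q % 3 = 2 := by
      rw [hq, pow_succ, pow_mul, Nat.mul_mod, Nat.pow_mod]
      norm_num
    rw [hcard, ← hq, Nat.prime_three.dvd_mul, Nat.prime_three.dvd_mul, not_or, not_or]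
    refine ⟨⟨fun h => ?_, fun h => ?_⟩, fun h => ?_⟩
    · have := Nat.prime_three.dvd_of_dvd_pow h; omega
    · have h2 : q ^ 2 % 3 = 1 := by rw [Nat.pow_mod, hq3]
      omega
    · omega
  let T : Sylow 2 G := default
  obtain ⟨N, hN, hNc⟩ := (Cfsg.Agent.S0071.result T).2 fun Q hQ g hg hco =>
    centralizes_of_small_frattini Q (T.2.to_le hQ) (hP.frattini_le hna T hQ) g hg fun r hr hrd => by
      refine ⟨fun e => ?_, fun h => ?_⟩
      · have h1 : 2 ∣ Nat.gcd (orderOf g) 2 := Nat.dvd_gcd (e ▸ hrd) dvd_rfl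
        rw [hco.gcd_eq_one] at h1
        omega
      · exact h3 (((Nat.prime_dvd_prime_iff_eq hr Nat.prime_three).1 (by norm_num at h; exact h)) ▸
          hrd.trans (orderOf_dvd_natCard g))
  rcases hN.eq_bot_or_eq_top with rfl | rfl
  · have hT : (T : Subgroup G) = ⊤ := Subgroup.isComplement'_bot_left.1 hNc
    have hG : IsPGroup 2 G := fun g => by
      obtain ⟨k, hk⟩ := T.2 ⟨g, hT ▸ Subgroup.mem_top g⟩
      exact ⟨k, congrArg Subtype.val hk⟩
    haveI := hG.center_nontrivial
    refine hna ?_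
    have hc : Subgroup.center G = ⊤ :=
      (show (Subgroup.center G).Normal from inferInstance).eq_bot_or_eq_top.resolve_left
        ((Subgroup.center G).nontrivial_iff_ne_bot.1 inferInstance)
    exact ⟨⟨fun a b => (Subgroup.mem_center_iff.1 (hc ▸ Subgroup.mem_top b) a)⟩⟩
  · exact T.ne_bot_of_dvd_card (hP.two_dvd hna) (Subgroup.isComplement'_top_left.1 hNc)

/-- `PSL₂(2)` is not simple. -/
theorem card_ne_two {G : Type*} [Group G] [Finite G] [IsSimpleGroup G] (hna : ¬ IsMulCommutative G)
    {F : Type*} [Field F] [Fintype F] (e : G ≃* Matrix.ProjectiveSpecialLinearGroup (Fin 2) F)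
    (hF : Fintype.card F = 2) : False := by
  haveI : Fact (Nat.Prime 3) := ⟨Nat.prime_three⟩
  have h2 : (2 : F) = 0 := by
    have h := FiniteField.cast_card_eq_zero F
    rw [hF] at h
    exact_mod_cast h
  have hcardG : Nat.card G = 6 := by
    rw [Nat.card_congr e.toEquiv]
    have h := Subgroup.card_eq_card_quotient_mul_card_subgroup
      (Subgroup.center (Matrix.SpecialLinearGroup (Fin 2) F))
    rw [Small.SL2C.center_card_even h2, mul_one] at h
    rw [← show Nat.card (Matrix.SpecialLinearGroup (Fin 2) F) = 6 by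
      rw [Small.SL2C.card_SL2, hF]; norm_num]
    exact h.symm
  obtain ⟨P⟩ := (inferInstance : Nonempty (Sylow 3 G))
  have hP3 : Nat.card P = 3 := by
    rw [Sylow.card_eq_multiplicity, hcardG]
    rw [show (6 : ℕ).factorization 3 = 1 by
      rw [show (6 : ℕ) = 2 * 3 from rfl, Nat.factorization_mul (by norm_num) (by norm_num)]
      simp [Nat.Prime.factorization Nat.prime_two, Nat.Prime.factorization Nat.prime_three]]
    norm_num
  have hidx : (P : Subgroup G).index = 2 := by
    have := Subgroup.card_mul_index (P : Subgroup G)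
    rw [hcardG, hP3] at this
    omega
  haveI : (P : Subgroup G).Normal := Subgroup.normal_of_index_eq_two hidx
  rcases (show (P : Subgroup G).Normal from inferInstance).eq_bot_or_eq_top with h | h
  · rw [h, Subgroup.card_bot] at hP3; omega
  · rw [h, Subgroup.index_top] at hidx; omega

theorem Prop'.pin {G : Type*} [Group G] [Finite G] [IsSimpleGroup G] (hna : ¬ IsMulCommutative G)
    (hP : Prop' G) (h : (∃ (F : Type) (_ : Field F) (_ : Fintype F),
        (Fintype.card F = 9 ∨ (∃ n : ℕ, Fintype.card F = 2 ^ n) ∨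
          ((Fintype.card F).Prime ∧ ∃ k : ℕ, Fintype.card F = 2 ^ k + 1 ∨ Fintype.card F + 1 = 2 ^ k)) ∧
        Nonempty (G ≃* Matrix.ProjectiveSpecialLinearGroup (Fin 2) F)) ∨
      (∃ (F : Type) (_ : Field F) (_ : Fintype F), Fintype.card F = 4 ∧
        Nonempty (G ≃* Matrix.ProjectiveSpecialLinearGroup (Fin 3) F)) ∨
      Cfsg.IsSuzuki G) :
    ∃ (F : Type) (_ : Field F) (_ : Fintype F),
      (Fintype.card F = 4 ∨ Fintype.card F = 9 ∨ ((Fintype.card F).Prime ∧ ∃ k : ℕ, Fintype.card F = 2 ^ k + 1 ∨ Fintype.card F = 2 ^ k - 1)) ∧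
      Nonempty (G ≃* Matrix.ProjectiveSpecialLinearGroup (Fin 2) F) := by
  rcases h with ⟨F, iF, iF', hc, ⟨e⟩⟩ | ⟨F, iF, iF', hc, ⟨e⟩⟩ | hS
  · refine ⟨F, iF, iF', ?_, ⟨e⟩⟩
    rcases hc with hc | ⟨n, hn⟩ | ⟨hpr, k, hc | hc⟩
    · exact Or.inr (Or.inl hc)
    · have h4 := psl_two_bound hn (Prop'.of_equiv e.symm hP)
      rw [hn] at h4
      have h1 : 1 < 2 ^ n := hn ▸ Fintype.one_lt_card
      have hn1 : n ≠ 0 := fun h => by rw [h] at h1; omega
      rcases (show n = 1 ∨ n = 2 by
        have : n ≤ 2 := (Nat.pow_le_pow_iff_right (by norm_num)).1 (h4.trans (by norm_num : 4 ≤ 2 ^ 2))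
        omega) with rfl | rfl
      · exact (card_ne_two hna e hn).elim
      · exact Or.inl hn
    · exact Or.inr (Or.inr ⟨hpr, k, Or.inl hc⟩)
    · exact Or.inr (Or.inr ⟨hpr, k, Or.inr (by omega)⟩)
  · exact (psl_three_not hc (Prop'.of_equiv e.symm hP)).elim
  · exact (hP.not_suzuki hna hS).elim

end Cfsg.Agent.Solv.SelfCentralizing
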