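import Cfsg.Agent.Lib.Solv.SelfCentralizing.PSL
import Cfsg.Agent.Lib.Solv.SmallRank
import Cfsg.Agent.Lib.Solv.MaxClass
import Cfsg.Agent.Lib.Fusion.RankTwoAut
import Cfsg.Agent.Lib.Fusion.Cores
import Cfsg.Agent.S0071
import Cfsg.Agent.S0199
import Cfsg.Agent.S0225
import Cfsg.Prelude.Def_Exceptional

/-!
Simple groups in which every non-cyclic subgroup contains its centralizer: involution centralizers are
`2`-groups.
-/

set_option autoImplicit false
set_option linter.style.haveILetI false

open scoped Pointwise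

namespace Cfsg.Agent.Solv.SelfCentralizing

universe u

/-- More than three quarters of the elements square to one: the group is commutative. -/
theorem comm_of_many_sq {G : Type*} [Group G] [Finite G]
    (h : 3 * Nat.card G < 4 * {x : G | x ^ 2 = 1}.ncard) (a b : G) : a * b = b * a := by
  classical
  haveI := Fintype.ofFinite G
  obtain ⟨S, hS⟩ : ∃ S, S = {x : G | x ^ 2 = 1} := ⟨_, rfl⟩
  rw [← hS] at h
  have hmem : ∀ x, x ∈ S → x⁻¹ = x := fun x hx => by
    rw [hS] at hx
    exact inv_eq_of_mul_eq_one_right (by rw [← pow_two]; exact hx)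
  have hcen : ∀ s ∈ S, s ∈ Subgroup.center G := by
    intro s hs
    have htop : Subgroup.centralizer ({s} : Set G) = ⊤ := by
      by_contra hne
      have hi := Subgroup.one_lt_index_of_ne_top hne
      have hc := Subgroup.card_mul_index (Subgroup.centralizer ({s} : Set G))
      have hsub : S ∩ (fun y => s * y) ⁻¹' S ⊆ (Subgroup.centralizer ({s} : Set G) : Set G) := by
        rintro y ⟨hy, hsy⟩
        refine Subgroup.mem_centralizer_singleton_iff.2 ?_
        have e := hmem _ hsy
        rw [mul_inv_rev, hmem y hy, hmem s hs] at e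
        exact e
      have h1 := Set.ncard_le_ncard hsub
      rw [← Nat.card_coe_set_eq (Subgroup.centralizer ({s} : Set G) : Set G)] at h1
      have h2 : ((fun y => s * y) ⁻¹' S).ncard = S.ncard :=
        Set.ncard_preimage_of_injective_subset_range (mul_right_injective s)
          (by rw [(Group.mulLeft_bijective s).2.range_eq]; exact Set.subset_univ _)
      have h3 := Set.ncard_union_add_ncard_inter S ((fun y => s * y) ⁻¹' S)
      have h4 := Set.ncard_le_card (S ∪ (fun y => s * y) ⁻¹' S)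
      have h5 : 2 * Nat.card (Subgroup.centralizer ({s} : Set G)) ≤ Nat.card G := by
        rw [← hc, mul_comm 2]; exact Nat.mul_le_mul_left _ hi
      simp only [SetLike.coe_sort_coe] at h1
      omega
    refine Subgroup.mem_center_iff.2 fun g => ?_
    exact Subgroup.mem_centralizer_singleton_iff.1 (htop ▸ Subgroup.mem_top g)
  have htop : Subgroup.center G = ⊤ := by
    by_contra hne
    have hi := Subgroup.one_lt_index_of_ne_top hne
    have hc := Subgroup.card_mul_index (Subgroup.center G)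
    have h1 := Set.ncard_le_ncard (show S ⊆ (Subgroup.center G : Set G) from hcen)
    rw [← Nat.card_coe_set_eq (Subgroup.center G : Set G)] at h1
    have h5 : 2 * Nat.card (Subgroup.center G) ≤ Nat.card G := by
      rw [← hc, mul_comm 2]; exact Nat.mul_le_mul_left _ hi
    simp only [SetLike.coe_sort_coe] at h1
    omega
  exact (Subgroup.mem_center_iff.1 (htop ▸ Subgroup.mem_top a) b).symm

variable {G : Type u} [Group G] [Finite G]

/-- Two commuting distinct involutions. -/
def Four (t e : G) : Prop := t ≠ 1 ∧ e ≠ 1 ∧ t ≠ e ∧ t ^ 2 = 1 ∧ e ^ 2 = 1 ∧ t * e = e * t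

theorem Prop'.four (hP : Prop' G) {t e : G} (h : Four t e) {x : G} (hxt : x * t = t * x)
    (hxe : x * e = e * x) : x = 1 ∨ x = t ∨ x = e ∨ x = t * e := by
  obtain ⟨ht1, he1, hte, ht2, he2, hc⟩ := h
  rw [pow_two] at ht2 he2
  have htei : t * (t * e) = e := by rw [← mul_assoc, ht2, one_mul]
  have hete : e * (t * e) = t := by rw [hc, ← mul_assoc, he2, one_mul]
  have htet : t * e * t = e := by rw [hc, mul_assoc, ht2, mul_one]
  have htee : t * e * e = t := by rw [mul_assoc, he2, mul_one]
  let E : Subgroup G :=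
    { carrier := {y | y = 1 ∨ y = t ∨ y = e ∨ y = t * e}
      one_mem' := Or.inl rfl
      mul_mem' := by
        rintro a b (rfl | rfl | rfl | rfl) (rfl | rfl | rfl | rfl) <;>
          simp [ht2, he2, htei, hete, htet, htee, ← hc] <;>
          exact Or.inl (by rw [← mul_assoc, htet, he2])
      inv_mem' := by
        rintro a (rfl | rfl | rfl | rfl)
        · exact Or.inl inv_one
        · exact Or.inr (Or.inl (inv_eq_of_mul_eq_one_right ht2))
        · exact Or.inr (Or.inr (Or.inl (inv_eq_of_mul_eq_one_right he2)))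
        · refine Or.inr (Or.inr (Or.inr (inv_eq_of_mul_eq_one_right ?_)))
          rw [← mul_assoc, htet, he2] }
  have hnc : ¬ IsCyclic E := fun hcy => hte
    (eq_of_mem_cyclic hcy (Or.inr (Or.inl rfl) : t ∈ E) (Or.inr (Or.inr (Or.inl rfl)) : e ∈ E)
      ht1 he1 (by rw [pow_two, ht2]) (by rw [pow_two, he2]))
  exact hP E hnc (Subgroup.mem_centralizer_iff.2 (by
    rintro y (rfl | rfl | rfl | rfl)
    · rw [one_mul, mul_one]
    · exact hxt.symm
    · exact hxe.symm
    · rw [mul_assoc, ← hxe, ← mul_assoc, ← hxt, mul_assoc]))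

theorem Prop'.four_sq (hP : Prop' G) {t e : G} (h : Four t e) {x : G} (hxt : x * t = t * x)
    (hxe : x * e = e * x) : x ^ 2 = 1 := by
  obtain ⟨-, -, -, ht2, he2, hc⟩ := id h
  rcases hP.four h hxt hxe with rfl | rfl | rfl | rfl
  · exact one_pow 2
  · exact ht2
  · exact he2
  · rw [(show Commute t e from hc).mul_pow, ht2, he2, one_mul]

/-- Elementary abelian subgroups have order at most `p ^ 2`. -/
theorem Prop'.rank (hP : Prop' G) (p : ℕ) (hp : p.Prime) : Cfsg.PRankLE p 2 G := by
  haveI := Fact.mk hp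
  intro A hA hexp
  by_contra hlt
  have hpA : IsPGroup p A := fun a => ⟨1, Subtype.ext (by
    rw [pow_one, SubmonoidClass.coe_pow]; exact hexp a a.2)⟩
  obtain ⟨n, hn⟩ := hpA.exists_card_eq
  obtain ⟨B, hB⟩ := Sylow.exists_subgroup_card_pow_prime p (G := A) (n := 2) (by
    rw [hn] at hlt ⊢
    refine pow_dvd_pow p ?_
    by_contra h
    exact hlt (Nat.pow_le_pow_right hp.pos (by omega)))
  obtain ⟨B', hB'⟩ : ∃ B', B' = B.map A.subtype := ⟨_, rfl⟩
  have hcard : Nat.card B' = p ^ 2 := by
    rw [hB', Nat.card_congr (B.equivMapOfInjective A.subtype Subtype.val_injective).toEquiv.symm, hB]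
  have hnc : ¬ IsCyclic B' := by
    intro hc
    obtain ⟨g, hg⟩ := hc.exists_ofOrder_eq_natCard
    rw [hcard] at hg
    have h1 : g ^ p = 1 := Subtype.ext (by
      obtain ⟨b, -, hb⟩ := Subgroup.mem_map.1 ((SetLike.ext_iff.1 hB' _).1 g.2)
      rw [SubmonoidClass.coe_pow, ← hb]
      exact hexp b b.2)
    have := Nat.le_of_dvd hp.pos (hg ▸ orderOf_dvd_of_pow_eq_one h1)
    nlinarith [hp.two_le]
  have hle : A ≤ B' := fun a ha => hP B' hnc (Subgroup.mem_centralizer_iff.2 fun b hb => by
    obtain ⟨b', -, rfl⟩ := Subgroup.mem_map.1 ((SetLike.ext_iff.1 hB' _).1 hb)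
    exact congrArg Subtype.val (hA.is_comm.comm b' ⟨a, ha⟩))
  exact hlt ((Nat.le_of_dvd Nat.card_pos (Subgroup.card_dvd_of_le hle)).trans hcard.le)

theorem Prop'.two_dvd (hP : Prop' G) [IsSimpleGroup G] (hna : ¬ IsMulCommutative G) :
    2 ∣ Nat.card G := by
  by_contra hodd
  have hne1 : Nat.card G ≠ 1 := Finite.one_lt_card.ne'
  have hq : (Nat.card G).minFac.Prime := Nat.minFac_prime hne1
  obtain ⟨q, hqdef⟩ : ∃ q, q = (Nat.card G).minFac := ⟨_, rfl⟩
  rw [← hqdef] at hq
  haveI := Fact.mk hq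
  have hqG : q ∣ Nat.card G := hqdef ▸ Nat.minFac_dvd _
  have hq2 : q ≠ 2 := fun e => hodd (e ▸ hqG)
  let P : Sylow q G := default
  obtain ⟨N, hN, hNc⟩ := (Cfsg.Agent.S0071.result P).2 fun Q hQ g hg hco => by
    obtain ⟨gi, hgi⟩ : ∃ gi : Subgroup.normalizer (Q : Set G), gi = ⟨g, hg⟩ := ⟨_, rfl⟩
    obtain ⟨α, hα⟩ : ∃ α, α = Subgroup.normalizerMonoidHom Q gi := ⟨_, rfl⟩
    have hαo : orderOf α ∣ orderOf g := by
      refine orderOf_dvd_of_pow_eq_one ?_
      rw [hα, ← map_pow]
      have : gi ^ orderOf g = 1 := Subtype.ext (by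
        rw [SubmonoidClass.coe_pow, hgi, pow_orderOf_eq_one]; rfl)
      rw [this, map_one]
    by_cases hα1 : α = 1
    · refine Subgroup.mem_centralizer_iff.2 fun x hx => ?_
      have h := congrArg Subtype.val (DFunLike.congr_fun hα1 ⟨x, hx⟩)
      rw [hα, hgi] at h
      exact (mul_inv_eq_iff_eq_mul.1 h).symm
    exfalso
    obtain ⟨r, hr, hrd⟩ := Nat.exists_prime_and_dvd (fun h => hα1 (orderOf_eq_one_iff.1 h))
    have hrg : r ∣ orderOf g := hrd.trans hαo
    have hrG : r ∣ Nat.card G := hrg.trans (orderOf_dvd_natCard g)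
    have hrq : r ≠ q := fun e => by
      have h1 : q ∣ Nat.gcd (orderOf g) q := Nat.dvd_gcd (e ▸ hrg) dvd_rfl
      rw [hco.gcd_eq_one] at h1
      exact hq.one_lt.ne' (Nat.dvd_one.1 h1)
    have hdiv := Fusion.prime_dvd_aut_of_rank_two (p := q) hq2 (P.2.to_le hQ)
      (fun A hA hexp => by
        have hle := hP.rank q hq (A.map Q.subtype) ⟨⟨fun a b => by
          obtain ⟨a', ha', ea⟩ := Subgroup.mem_map.1 a.2
          obtain ⟨b', hb', eb⟩ := Subgroup.mem_map.1 b.2
          refine Subtype.ext ?_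
          show (a : G) * b = b * a
          rw [← ea, ← eb, ← map_mul, ← map_mul]
          exact congrArg _ (congrArg Subtype.val (hA.is_comm.comm ⟨a', ha'⟩ ⟨b', hb'⟩))⟩⟩
          (fun a ha => by
            obtain ⟨a', ha', rfl⟩ := Subgroup.mem_map.1 ha
            rw [← map_pow, hexp a' ha', map_one])
        rwa [Nat.card_congr (A.equivMapOfInjective Q.subtype Subtype.val_injective).toEquiv.symm]
          at hle)
      r hr hrq (hrd.trans (orderOf_dvd_natCard α))
    have hqr : q < r := lt_of_le_of_ne (hqdef ▸ Nat.minFac_le_of_dvd hr.two_le hrG) (Ne.symm hrq)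
    have h12 := Nat.sq_sub_sq q 1
    rw [one_pow] at h12
    rw [h12] at hdiv
    rcases hr.dvd_mul.1 hdiv with h | h
    · have := Nat.le_of_dvd (by omega) h
      have hr2 : r ≠ 2 := fun e => hodd (e ▸ hrG)
      have h1 := hr.eq_two_or_odd.resolve_left hr2
      have h2 := hq.eq_two_or_odd.resolve_left hq2
      omega
    · have := Nat.le_of_dvd (by have := hq.two_le; omega) h
      omega
  rcases hN.eq_bot_or_eq_top with rfl | rfl
  · have hP' : (P : Subgroup G) = ⊤ := Subgroup.isComplement'_bot_left.1 hNc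
    have hG : IsPGroup q G := fun g => by
      obtain ⟨k, hk⟩ := P.2 ⟨g, hP' ▸ Subgroup.mem_top g⟩
      exact ⟨k, congrArg Subtype.val hk⟩
    haveI := hG.center_nontrivial
    refine hna ?_
    have hc : Subgroup.center G = ⊤ :=
      (show (Subgroup.center G).Normal from inferInstance).eq_bot_or_eq_top.resolve_left
        ((Subgroup.center G).nontrivial_iff_ne_bot.1 inferInstance)
    exact ⟨⟨fun a b => (Subgroup.mem_center_iff.1 (hc ▸ Subgroup.mem_top b) a)⟩⟩
  · have hP' : (P : Subgroup G) = ⊥ := Subgroup.isComplement'_top_left.1 hNc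
    exact P.ne_bot_of_dvd_card hqG hP'

/-- Klein four-groups exist. -/
theorem Prop'.exists_four (hP : Prop' G) [IsSimpleGroup G] (hna : ¬ IsMulCommutative G) :
    ∃ t e : G, Four t e := by
  classical
  by_contra hno
  obtain ⟨z, hz, N, hN, hNodd, hzN⟩ := Cfsg.Agent.S0225.result
    (even_iff_two_dvd.2 (hP.two_dvd hna)) fun E hE => by
      haveI := hE
      haveI := Fintype.ofFinite E
      have hcard : Fintype.card E = 4 := by rw [← Nat.card_eq_fintype_card, hE.card_four]
      obtain ⟨x, hx⟩ := Fintype.exists_ne_of_one_lt_card (by omega) (1 : E)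
      obtain ⟨y, hy, hy'⟩ := Finset.exists_mem_notMem_of_card_lt_card
        (s := ({1, x} : Finset E)) (t := Finset.univ) (by
          rw [Finset.card_univ, hcard, Finset.card_pair (Ne.symm hx)]; omega)
      simp only [Finset.mem_insert, Finset.mem_singleton, not_or] at hy'
      exact hno ⟨x, y, by simpa using hx, by simpa using hy'.1,
        fun e => hy'.2 (Subtype.ext e.symm),
        by rw [← SubmonoidClass.coe_pow, pow_two, IsKleinFour.mul_self, OneMemClass.coe_one],
        by rw [← SubmonoidClass.coe_pow, pow_two, IsKleinFour.mul_self, OneMemClass.coe_one],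
        congrArg Subtype.val (mul_comm_of_exponent_two IsKleinFour.exponent_two x y)⟩
  rcases hN.eq_bot_or_eq_top with rfl | rfl
  · have hzc : z ∈ Subgroup.center G := Subgroup.mem_center_iff.2 fun g => by
      have h := Subgroup.mem_bot.1 (hzN g)
      rw [mul_inv_eq_one, mul_inv_eq_iff_eq_mul] at h
      exact h.symm
    rcases (show (Subgroup.center G).Normal from inferInstance).eq_bot_or_eq_top with hc | hc
    · rw [hc, Subgroup.mem_bot] at hzc
      rw [hzc, orderOf_one] at hz
      omega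
    · exact hna ⟨⟨fun a b => (Subgroup.mem_center_iff.1 (hc ▸ Subgroup.mem_top b) a)⟩⟩
  · rw [Subgroup.card_top] at hNodd
    exact Nat.not_even_iff_odd.2 hNodd (even_iff_two_dvd.2 (hP.two_dvd hna))

theorem Four.map {H : Type*} [Group H] (f : G →* H) (hf : Function.Injective f) {t e : G}
    (h : Four t e) : f t ≠ 1 ∧ f e ≠ 1 ∧ f t ≠ f e ∧ f t ^ 2 = 1 ∧ f e ^ 2 = 1 ∧
      f t * f e = f e * f t := by
  obtain ⟨h1, h2, h3, h4, h5, h6⟩ := h
  exact ⟨(map_ne_one_iff f hf).2 h1, (map_ne_one_iff f hf).2 h2, hf.ne h3,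
    by rw [← map_pow, h4, map_one], by rw [← map_pow, h5, map_one], by rw [← map_mul, h6, map_mul]⟩

/-- Every Sylow `2`-subgroup contains a four-group. -/
theorem exists_four_mem {t e : G} (h : Four t e) (T : Sylow 2 G) :
    ∃ a b, Four a b ∧ a ∈ T ∧ b ∈ T := by
  haveI : Fact (Nat.Prime 2) := ⟨Nat.prime_two⟩
  obtain ⟨-, -, -, ht2, he2, hc⟩ := id h
  have hE : IsPGroup 2 (Subgroup.closure ({t, e} : Set G)) := by
    have hle : Subgroup.closure ({t, e} : Set G) ≤
        Subgroup.zpowers t ⊔ Subgroup.zpowers e := by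
      rw [Subgroup.closure_le]
      rintro x (rfl | rfl)
      · exact Subgroup.mem_sup_left (Subgroup.mem_zpowers _)
      · exact Subgroup.mem_sup_right (Subgroup.mem_zpowers _)
    refine IsPGroup.to_le ?_ hle
    refine IsPGroup.to_sup_of_normal_right' ?_ ?_ ?_
    · exact IsPGroup.of_card (n := 1) (by
        rw [Nat.card_zpowers, orderOf_eq_prime ht2 h.1, pow_one])
    · exact IsPGroup.of_card (n := 1) (by
        rw [Nat.card_zpowers, orderOf_eq_prime he2 h.2.1, pow_one])
    · rw [Subgroup.zpowers_le]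
      refine Subgroup.centralizer_le_normalizer _ (Subgroup.mem_centralizer_iff.2 ?_)
      rintro _ ⟨i, rfl⟩
      exact ((show Commute t e from hc).zpow_right i).eq.symm
  obtain ⟨S, hS⟩ := hE.exists_le_sylow
  obtain ⟨g, hg⟩ := MulAction.exists_smul_eq G S T
  have hmem : ∀ x ∈ Subgroup.closure ({t, e} : Set G), g * x * g⁻¹ ∈ T := fun x hx => by
    rw [← hg]
    exact ⟨x, hS hx, rfl⟩
  exact ⟨_, _, h.map (MulAut.conj g).toMonoidHom (MulAut.conj g).injective,
    hmem t (Subgroup.subset_closure (by simp)), hmem e (Subgroup.subset_closure (by simp))⟩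

theorem Prop'.exists_four_partner (hP : Prop' G) [IsSimpleGroup G] (hna : ¬ IsMulCommutative G)
    {t : G} (ht : orderOf t = 2) : ∃ e, Four t e := by
  haveI : Fact (Nat.Prime 2) := ⟨Nat.prime_two⟩
  obtain ⟨T, hT⟩ := (IsPGroup.of_card (n := 1) (by rw [Nat.card_zpowers, ht, pow_one]) :
    IsPGroup 2 (Subgroup.zpowers t)).exists_le_sylow
  have htT : t ∈ T := hT (Subgroup.mem_zpowers t)
  have ht1 : t ≠ 1 := fun e => by rw [e, orderOf_one] at ht; omega
  have ht2 : t ^ 2 = 1 := ht ▸ pow_orderOf_eq_one t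
  obtain ⟨t₀, e₀, h₀⟩ := hP.exists_four hna
  obtain ⟨a, b, hab, ha, hb⟩ := exists_four_mem h₀ T
  haveI : Nontrivial (T : Subgroup G) := ⟨⟨⟨t, htT⟩, 1, fun e => ht1 (congrArg Subtype.val e)⟩⟩
  haveI := T.2.center_nontrivial
  obtain ⟨k, hk, hk'⟩ := (T.2.to_subgroup (Subgroup.center (T : Subgroup G))).nontrivial_iff_card.1
    inferInstance
  obtain ⟨z, hz⟩ := exists_prime_orderOf_dvd_card' (G := Subgroup.center (T : Subgroup G)) 2
    (hk' ▸ dvd_pow_self 2 hk.ne')
  have hzT : ∀ y ∈ T, y * ((z : (T : Subgroup G)) : G) = ((z : (T : Subgroup G)) : G) * y := fun y hy =>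
    congrArg Subtype.val (Subgroup.mem_center_iff.1 z.2 ⟨y, hy⟩)
  have hz1 : ((z : (T : Subgroup G)) : G) ≠ 1 := fun e => by
    rw [show z = 1 from Subtype.ext (Subtype.ext e), orderOf_one] at hz
    omega
  have hz2 : ((z : (T : Subgroup G)) : G) ^ 2 = 1 := by
    have := pow_orderOf_eq_one z
    rw [hz] at this
    exact congrArg (fun w : Subgroup.center (T : Subgroup G) => ((w : (T : Subgroup G)) : G)) this
  by_cases htz : t = ((z : (T : Subgroup G)) : G)
  · obtain ⟨ha1, hb1, hne, ha2, hb2, -⟩ := hab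
    by_cases hat : t = a
    · exact ⟨b, ht1, hb1, hat ▸ hne, ht2, hb2, htz ▸ (hzT b hb).symm⟩
    · exact ⟨a, ht1, ha1, hat, ht2, ha2, htz ▸ (hzT a ha).symm⟩
  · exact ⟨_, ht1, hz1, htz, ht2, hz2, hzT t htT⟩

/-- The partner of `t` inverts no nontrivial element of odd order centralizing `t`. -/
theorem Prop'.not_inverts (hP : Prop' G) {t e x : G} (h : Four t e) (hxt : x * t = t * x)
    (hinv : e * x * e = x⁻¹) (hodd : Odd (orderOf x)) : x = 1 := by
  by_contra hx1
  obtain ⟨ht1, he1, hte, ht2, he2, hc⟩ := h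
  have hsq2 : ∀ y : G, y ∈ Subgroup.zpowers x → y ^ 2 = 1 → y = 1 := fun y hy hy2 => by
    have h1 : orderOf y ∣ 2 := orderOf_dvd_of_pow_eq_one hy2
    have h2 : orderOf y ∣ orderOf x := by
      obtain ⟨i, rfl⟩ := hy
      exact orderOf_dvd_of_pow_eq_one (by
        rw [← zpow_natCast, ← zpow_mul, mul_comm, zpow_mul, zpow_natCast, pow_orderOf_eq_one, one_zpow])
    rcases (Nat.dvd_prime Nat.prime_two).1 h1 with h' | h'
    · exact orderOf_eq_one_iff.1 h'
    · exact absurd (hodd.of_dvd_nat (h' ▸ h2)) (by decide)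
  have hex : e * x ≠ x * e := fun hex => hx1 (hsq2 x (Subgroup.mem_zpowers x) (by
    rw [hex, mul_assoc, ← pow_two, he2, mul_one] at hinv
    rw [pow_two]; exact eq_inv_iff_mul_eq_one.1 hinv))
  obtain ⟨H, hH⟩ : ∃ H, H = Subgroup.zpowers x ⊔ Subgroup.zpowers e := ⟨_, rfl⟩
  have hxH : x ∈ H := hH ▸ Subgroup.mem_sup_left (Subgroup.mem_zpowers x)
  have heH : e ∈ H := hH ▸ Subgroup.mem_sup_right (Subgroup.mem_zpowers e)
  have hnc : ¬ IsCyclic H := fun hcy => hex (by
    obtain ⟨w, hw⟩ := hcy.exists_generator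
    obtain ⟨i, hi⟩ := hw ⟨e, heH⟩
    obtain ⟨j, hj⟩ := hw ⟨x, hxH⟩
    have : (⟨e, heH⟩ : H) * ⟨x, hxH⟩ = ⟨x, hxH⟩ * ⟨e, heH⟩ := by
      rw [← hi, ← hj]; exact (Commute.zpow_zpow_self w i j).eq
    exact congrArg Subtype.val this)
  have htH : t ∈ H := hP H hnc (by
    rw [hH, Subgroup.zpowers_eq_closure, Subgroup.zpowers_eq_closure, ← Subgroup.closure_union,
      Subgroup.centralizer_closure, Subgroup.mem_centralizer_iff]
    rintro y (rfl | rfl)
    · exact hxt
    · exact hc.symm)
  have hnorm : Subgroup.zpowers e ≤ Subgroup.normalizer (Subgroup.zpowers x : Set G) := by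
    have he' : e⁻¹ = e := inv_eq_of_mul_eq_one_right (by rw [← pow_two, he2])
    rw [Subgroup.zpowers_le]
    refine Subgroup.mem_normalizer_iff.2 fun y => ?_
    have hcj : ∀ i : ℤ, e * x ^ i * e⁻¹ = x ^ (-i) := fun i => by
      rw [← conj_zpow, he', hinv, inv_zpow, zpow_neg]
    constructor
    · rintro ⟨i, rfl⟩
      exact ⟨-i, (hcj i).symm⟩
    · rintro ⟨i, hi⟩
      refine ⟨-i, ?_⟩
      show x ^ (-i) = y
      rw [← hcj i, show x ^ i = e * y * e⁻¹ from hi, he', ← mul_assoc, ← mul_assoc, ← pow_two, he2,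
        one_mul, mul_assoc, ← pow_two, he2, mul_one]
  have hset : (t : G) ∈ ((Subgroup.zpowers x : Set G) * (Subgroup.zpowers e : Set G)) := by
    rw [← Subgroup.coe_mul_of_right_le_normalizer_left _ _ hnorm, ← hH]; exact htH
  obtain ⟨y, ⟨i, rfl⟩, w, ⟨j, rfl⟩, hyw⟩ := Set.mem_mul.1 hset
  rcases Int.even_or_odd j with ⟨k, rfl⟩ | ⟨k, rfl⟩
  · have hyw' : x ^ i = t := by
      have : e ^ (k + k) = 1 := by rw [← two_mul, zpow_mul, zpow_two, ← pow_two, he2, one_zpow]
      simpa [this] using hyw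
    exact ht1 (hsq2 t ⟨i, hyw'⟩ ht2)
  · have hyw' : x ^ i * e = t := by
      have : e ^ (2 * k + 1) = e := by
        rw [zpow_add, zpow_mul, zpow_two, ← pow_two, he2, one_zpow, one_mul, zpow_one]
      simpa [this] using hyw
    refine hex ?_
    have he' : e = (x ^ i)⁻¹ * t := by rw [← hyw', inv_mul_cancel_left]
    rw [he']
    exact (((Commute.refl x).zpow_right i).inv_right.mul_right hxt).eq.symm

/-- In a centralizer of an involution the partner lies in the `2`-core. -/
theorem Prop'.mem_core (hP : Prop' G) {t : G} (e : Subgroup.centralizer ({t} : Set G))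
    (h : Four t (e : G)) : ∃ N : Subgroup (Subgroup.centralizer ({t} : Set G)),
      N.Normal ∧ IsPGroup 2 N ∧ e ∈ N := by
  haveI : Fact (Nat.Prime 2) := ⟨Nat.prime_two⟩
  have he2 : e ^ 2 = 1 := Subtype.ext (by rw [SubmonoidClass.coe_pow]; exact h.2.2.2.2.1)
  have he1 : e ≠ 1 := fun e' => h.2.1 (congrArg Subtype.val e')
  obtain ⟨N, h1, h2, h3⟩ := Cfsg.Agent.S0199.result (Subgroup.zpowers e)
    (IsPGroup.of_card (n := 1) (by rw [Nat.card_zpowers, orderOf_eq_prime he2 he1, pow_one]))
    fun g => by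
      obtain ⟨b, hb⟩ : ∃ b, b = g * e * g⁻¹ := ⟨_, rfl⟩
      have hb2 : b * b = 1 := by
        rw [hb, ← pow_two, conj_pow, he2, mul_one, mul_inv_cancel]
      have hee : e * e = 1 := by rw [← pow_two, he2]
      obtain ⟨c, hc⟩ : ∃ c, c = e * b := ⟨_, rfl⟩
      have hcinv : e * c * e = c⁻¹ := by
        rw [hc, mul_inv_rev, inv_eq_of_mul_eq_one_right hb2, inv_eq_of_mul_eq_one_right hee,
          ← mul_assoc, hee, one_mul]
      have hei : e⁻¹ = e := inv_eq_of_mul_eq_one_right hee
      have hcj : ∀ i : ℤ, e * c ^ i * e = c ^ (-i) := fun i => by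
        calc e * c ^ i * e = e * c ^ i * e⁻¹ := by rw [hei]
          _ = (e * c * e⁻¹) ^ i := conj_zpow.symm
          _ = c ^ (-i) := by rw [hei, hcinv, inv_zpow, zpow_neg]
      obtain ⟨k, m, hm, hord⟩ := Nat.exists_eq_two_pow_mul_odd (n := orderOf c) (orderOf_pos c).ne'
      have hm1 : m = 1 := by
        have hord' : orderOf (c ^ (2 ^ k : ℕ)) = m := by
          rw [orderOf_pow, hord, Nat.gcd_mul_right_left, Nat.mul_div_cancel_left _ (Nat.two_pow_pos k)]
        have := hP.not_inverts h (x := ((c ^ (2 ^ k : ℕ) : _) : G))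
          (Subgroup.mem_centralizer_singleton_iff.1 (c ^ (2 ^ k : ℕ)).2)
          (by
            have := hcj (2 ^ k : ℕ)
            rw [zpow_natCast, zpow_neg, zpow_natCast] at this
            exact congrArg Subtype.val this)
          (by rw [Subgroup.orderOf_coe, hord']; exact hm)
        rw [← hord', show (c ^ (2 ^ k : ℕ)) = 1 from Subtype.ext this, orderOf_one]
      rw [hm1, mul_one] at hord
      intro y
      have hy : (∃ i : ℤ, (y : Subgroup.centralizer ({t} : Set G)) = c ^ i) ∨
          ∃ i : ℤ, (y : Subgroup.centralizer ({t} : Set G)) = c ^ i * e := by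
        have hcl : (y : Subgroup.centralizer ({t} : Set G)) ∈
            Subgroup.closure ({e, b} : Set (Subgroup.centralizer ({t} : Set G))) := by
          have heq : Subgroup.zpowers e ⊔ (Subgroup.zpowers e).map (MulAut.conj g).toMonoidHom =
              Subgroup.closure ({e, b} : Set (Subgroup.centralizer ({t} : Set G))) := by
            rw [MonoidHom.map_zpowers, show (MulAut.conj g).toMonoidHom e = b from hb.symm,
              show ({e, b} : Set (Subgroup.centralizer ({t} : Set G))) = {e} ∪ {b} from rfl,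
              Subgroup.closure_union, ← Subgroup.zpowers_eq_closure, ← Subgroup.zpowers_eq_closure]
          exact (SetLike.ext_iff.1 heq _).1 y.2
        generalize (y : Subgroup.centralizer ({t} : Set G)) = w at hcl ⊢
        induction hcl using Subgroup.closure_induction with
        | mem x hx =>
          rcases hx with rfl | rfl
          · exact Or.inr ⟨0, by rw [zpow_zero, one_mul]⟩
          · refine Or.inr ⟨-1, ?_⟩
            rw [zpow_neg, zpow_one, ← hcinv, hc, mul_assoc, hee, mul_one, ← mul_assoc, hee, one_mul]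
        | one => exact Or.inl ⟨0, (zpow_zero c).symm⟩
        | mul x z _ _ hx hz =>
          rcases hx with ⟨i, rfl⟩ | ⟨i, rfl⟩ <;> rcases hz with ⟨j, rfl⟩ | ⟨j, rfl⟩
          · exact Or.inl ⟨i + j, (zpow_add c i j).symm⟩
          · exact Or.inr ⟨i + j, by rw [zpow_add, mul_assoc]⟩
          · refine Or.inr ⟨i + -j, ?_⟩
            rw [zpow_add, ← hcj j]
            simp only [mul_assoc, hee, mul_one]
          · refine Or.inl ⟨i + -j, ?_⟩
            rw [zpow_add, ← hcj j]
            simp only [mul_assoc]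
        | inv x _ hx =>
          rcases hx with ⟨i, rfl⟩ | ⟨i, rfl⟩
          · exact Or.inl ⟨-i, (zpow_neg c i).symm⟩
          · refine Or.inr ⟨i, ?_⟩
            rw [mul_inv_rev, hei, ← zpow_neg, ← hcj i]
            simp only [← mul_assoc, hee, one_mul]
      refine ⟨k + 1, Subtype.ext ?_⟩
      rw [SubmonoidClass.coe_pow, OneMemClass.coe_one, pow_succ', pow_mul]
      rcases hy with ⟨i, hi⟩ | ⟨i, hi⟩
      · have h2k : (c ^ i) ^ (2 ^ k) = 1 := by
          rw [← zpow_natCast, ← zpow_mul, mul_comm, zpow_mul, zpow_natCast, ← hord, pow_orderOf_eq_one,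
            one_zpow]
        rw [hi, ← pow_mul, mul_comm, pow_mul, h2k, one_pow]
      · rw [hi, pow_two, show c ^ i * e * (c ^ i * e) = c ^ i * (e * c ^ i * e) by
          simp only [mul_assoc], hcj, ← zpow_add, add_neg_cancel, zpow_zero, one_pow]
  exact ⟨N, h1, h2, h3 (Subgroup.mem_zpowers e)⟩

/-- Centralizers of involutions are `2`-groups. -/
theorem Prop'.cit (hP : Prop' G) [IsSimpleGroup G] (hna : ¬ IsMulCommutative G) (t : G)
    (ht : orderOf t = 2) : IsPGroup 2 (Subgroup.centralizer ({t} : Set G)) := by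
  classical
  haveI : Fact (Nat.Prime 2) := ⟨Nat.prime_two⟩
  obtain ⟨e, he⟩ := hP.exists_four_partner hna ht
  obtain ⟨n, m, hm, hn⟩ := Nat.exists_eq_two_pow_mul_odd
    (n := Nat.card (Subgroup.centralizer ({t} : Set G))) Nat.card_pos.ne'
  by_cases hm1 : m = 1
  · exact IsPGroup.of_card (n := n) (by rw [hn, hm1, mul_one])
  exfalso
  obtain ⟨r, hr, hrm⟩ := Nat.exists_prime_and_dvd hm1
  have hr2 : r ≠ 2 := fun h => Nat.not_even_iff_odd.2 hm (even_iff_two_dvd.2 (h ▸ hrm))
  haveI := Fact.mk hr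
  obtain ⟨x, hx⟩ := exists_prime_orderOf_dvd_card'
    (G := Subgroup.centralizer ({t} : Set G)) r (hn ▸ hrm.mul_left _)
  have hxt : (x : G) * t = t * x := Subgroup.mem_centralizer_singleton_iff.1 x.2
  have hxo : orderOf (x : G) = r := (Subgroup.orderOf_coe x).trans hx
  have hnofix : ∀ u : G, Four t u → (x : G) * u ≠ u * x := fun u hu hxu => by
    have := orderOf_dvd_of_pow_eq_one (hP.four_sq hu hxt hxu)
    rw [hxo] at this
    exact hr2 ((Nat.prime_dvd_prime_iff_eq hr Nat.prime_two).1 this)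
  have het : e * t = t * e := he.2.2.2.2.2.symm
  obtain ⟨U, hU⟩ : ∃ U, U = Cfsg.pCore 2 (Subgroup.centralizer ({t} : Set G)) := ⟨_, rfl⟩
  haveI : U.Normal := hU ▸ Cfsg.pCore_normal _ _
  have hUp : IsPGroup 2 U := hU ▸ Fusion.isPGroup_pCore 2 _
  have hmemU : ∀ w : Subgroup.centralizer ({t} : Set G), Four t (w : G) → w ∈ U := fun w hw => by
    obtain ⟨N, h1, h2, h3⟩ := hP.mem_core w hw
    exact hU ▸ le_sSup (show N ∈ {N : Subgroup (Subgroup.centralizer ({t} : Set G)) | N.Normal ∧ IsPGroup 2 N} from ⟨h1, h2⟩) h3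
  have htC : t ∈ Subgroup.centralizer ({t} : Set G) := Subgroup.mem_centralizer_singleton_iff.2 rfl
  have heC : e ∈ Subgroup.centralizer ({t} : Set G) := Subgroup.mem_centralizer_singleton_iff.2 het
  obtain ⟨ht1, he1, hte, ht2, he2, hc⟩ := id he
  have htU : (⟨t, htC⟩ : Subgroup.centralizer ({t} : Set G)) ∈ U := by
    have h2 : Four t (t * e) := ⟨ht1, fun h => hte (mul_left_cancel ((h.trans (by rw [← pow_two, ht2])) :
        t * e = t * t)).symm,
      fun h => he1 (mul_left_cancel ((mul_one t).trans h)).symm, ht2,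
      by rw [(show Commute t e from hc).mul_pow, ht2, he2, one_mul], by
        rw [mul_assoc, hc]⟩
    have h3 := mul_mem (hmemU ⟨t * e, mul_mem htC heC⟩ h2) (hmemU ⟨e, heC⟩ he)
    have h4 : (⟨t * e, mul_mem htC heC⟩ : Subgroup.centralizer ({t} : Set G)) * ⟨e, heC⟩ = ⟨t, htC⟩ :=
      Subtype.ext (show t * e * e = t by rw [mul_assoc, ← pow_two, he2, mul_one])
    rwa [h4] at h3
  obtain ⟨ι, hι⟩ : ∃ ι : U →* G, ι = (Subgroup.centralizer ({t} : Set G)).subtype.comp U.subtype := ⟨_, rfl⟩
  have hιinj : Function.Injective ι := hι ▸ Subtype.val_injective.comp Subtype.val_injective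
  have hιt : ∀ u : U, ι u * t = t * ι u := fun u => by
    rw [hι]; exact Subgroup.mem_centralizer_singleton_iff.1 u.1.2
  haveI := Fintype.ofFinite U
  obtain ⟨J, hJ⟩ : ∃ J : Finset U, J = Finset.univ.filter fun u : U => u ^ 2 = 1 ∧ ι u ≠ 1 ∧ ι u ≠ t :=
    ⟨_, rfl⟩
  have hfour : ∀ u ∈ J, Four t (ι u) := fun u hu => by
    rw [hJ, Finset.mem_filter] at hu
    exact ⟨ht1, hu.2.2.1, Ne.symm hu.2.2.2, ht2, by rw [← map_pow, hu.2.1, map_one], (hιt u).symm⟩
  have hJmem : ∀ u : U, Four t (ι u) → u ∈ J := fun u hu => by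
    rw [hJ, Finset.mem_filter]
    exact ⟨Finset.mem_univ _, hιinj (by rw [map_pow, map_one]; exact hu.2.2.2.2.1), hu.2.1,
      Ne.symm hu.2.2.1⟩
  obtain ⟨tU, htU'⟩ : ∃ tU : U, tU = ⟨_, htU⟩ := ⟨_, rfl⟩
  have hιtU : ι tU = t := by rw [hι, htU']; rfl
  obtain ⟨eU, heU'⟩ : ∃ eU : U, eU = ⟨⟨e, heC⟩, hmemU _ he⟩ := ⟨_, rfl⟩
  have hιeU : ι eU = e := by rw [hι, heU']; rfl
  have hcent : ∀ u ∈ J, Nat.card (Subgroup.centralizer ({u} : Set U)) = 4 := fun u hu => by
    have hu' := hfour u hu
    have hset : (Subgroup.centralizer ({u} : Set U) : Set U) =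
        (({1, tU, u, tU * u} : Finset U) : Set U) := by
      ext w
      simp only [SetLike.mem_coe, Finset.coe_insert, Finset.coe_singleton, Set.mem_insert_iff,
        Set.mem_singleton_iff, Subgroup.mem_centralizer_singleton_iff]
      refine ⟨fun hw => ?_, fun hw => ?_⟩
      · rcases hP.four hu' (hιt w) (by rw [← map_mul, ← map_mul, hw]) with h | h | h | h
        · exact Or.inl (hιinj (h.trans (map_one ι).symm))
        · exact Or.inr (Or.inl (hιinj (h.trans hιtU.symm)))
        · exact Or.inr (Or.inr (Or.inl (hιinj h)))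
        · exact Or.inr (Or.inr (Or.inr (hιinj (by rw [h, map_mul, hιtU]))))
      · have htu : Commute tU u := hιinj (by rw [map_mul, map_mul, hιtU]; exact (hιt u).symm)
        rcases hw with rfl | rfl | rfl | rfl
        · rw [one_mul, mul_one]
        · exact htu.eq
        · rfl
        · exact (htu.mul_left (Commute.refl u)).eq
    rw [← SetLike.coe_sort_coe, Nat.card_coe_set_eq, hset, Set.ncard_coe_finset]
    have h1t : (1 : U) ≠ tU := fun h => ht1 (by rw [← hιtU, ← h, map_one])
    have h1u : (1 : U) ≠ u := fun h => hu'.2.1 (by rw [← h, map_one])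
    have htu : tU ≠ u := fun h => hu'.2.2.1 (hιtU.symm.trans (congrArg ι h))
    have h1tu : (1 : U) ≠ tU * u := fun h => by
      have := congrArg ι h
      rw [map_one, map_mul, hιtU] at this
      refine hu'.2.2.1 ?_
      calc t = t * (t * ι u) := by rw [← this, mul_one]
        _ = ι u := by rw [← mul_assoc, ← pow_two, ht2, one_mul]
    have htTu : tU ≠ tU * u := fun h => h1u (mul_left_cancel ((mul_one tU).trans h))
    have huTu : u ≠ tU * u := fun h => h1t (mul_right_cancel ((one_mul u).trans h))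
    simp [h1t, h1u, htu, h1tu, htTu, huTu]
  obtain ⟨a, ha⟩ := hUp.exists_card_eq
  have hUcard : Nat.card U = Fintype.card U := Nat.card_eq_fintype_card
  -- the orbit sizes
  have hdvd : Nat.card U ∣ 4 * J.card := by
    rw [Finset.card_eq_sum_card_image (fun u => ConjClasses.mk u) J, Finset.mul_sum]
    refine Finset.dvd_sum fun C hC => ?_
    obtain ⟨u, hu, rfl⟩ := Finset.mem_image.1 hC
    have hfib : ((J.filter fun w => ConjClasses.mk w = ConjClasses.mk u : Finset U) : Set U) =
        (ConjClasses.mk u).carrier := by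
      ext w
      simp only [Finset.coe_filter, Set.mem_setOf_eq, ConjClasses.mem_carrier_iff_mk_eq]
      refine ⟨fun h => h.2, fun h => ⟨?_, h⟩⟩
      obtain ⟨c, hc⟩ := isConj_iff.1 (ConjClasses.mk_eq_mk_iff_isConj.1 h.symm)
      obtain ⟨h1, h2, h3, h4, h5, h6⟩ := hfour u hu
      refine hJmem w ⟨h1, ?_, ?_, h4, ?_, (hιt w).symm⟩
      · intro hw
        rw [← hc, map_mul, map_mul, map_inv, mul_inv_eq_one, mul_eq_left] at hw
        exact h2 hw
      · intro hw
        rw [← hc, map_mul, map_mul, map_inv, eq_mul_inv_iff_mul_eq, ← hιt c] at hw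
        exact h3 (mul_left_cancel hw)
      · rw [← map_pow, ← hc, conj_pow]
        rw [show u ^ 2 = 1 from hιinj (by rw [map_pow, h5, map_one]), mul_one, mul_inv_cancel,
          map_one]
    have hsz : (ConjClasses.mk u).carrier.ncard * 4 = Nat.card U := by
      rw [← ConjAct.orbit_eq_carrier_conjClasses, ← MulAction.index_stabilizer]
      have hst : Nat.card (MulAction.stabilizer (ConjAct U) u) = 4 := by
        rw [ConjAct.stabilizer_eq_centralizer]
        exact hcent u hu
      rw [← hst, mul_comm, Subgroup.card_mul_index]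
      exact Nat.card_congr ConjAct.ofConjAct.toEquiv
    rw [← Set.ncard_coe_finset, hfib, mul_comm 4, hsz]
  have heJ : eU ∈ J := hJmem _ (hιeU ▸ he)
  have hJ2 : J.card + 2 ≤ Nat.card U := by
    rw [hUcard]
    have h1 : (1 : U) ∉ J := fun h => (hfour _ h).2.1 (map_one ι)
    have h2 : tU ∉ J := fun h => (hfour _ h).2.2.1 hιtU.symm
    have h3 : (1 : U) ≠ tU := fun h => ht1 (by rw [← hιtU, ← h, map_one])
    have := Finset.card_le_univ (insert (1 : U) (insert tU J))
    rw [Finset.card_insert_of_notMem (by simp [h1, h3]), Finset.card_insert_of_notMem h2] at this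
    omega
  obtain ⟨k, hk⟩ := hdvd
  -- `4 * |J| = |U| * k` with `k ≤ 3`
  have hk3 : k < 4 := by
    by_contra h
    have : Nat.card U * 4 ≤ Nat.card U * k := Nat.mul_le_mul_left _ (not_lt.1 h)
    omega
  have hJpos : 0 < J.card := Finset.card_pos.2 ⟨_, heJ⟩
  have hJr : ¬ r ∣ J.card := by
    intro hd
    rcases (show k = 0 ∨ k = 1 ∨ k = 2 ∨ k = 3 by omega) with rfl | rfl | rfl | rfl
    · omega
    · rw [mul_one, ha] at hk
      refine hr2 ((Nat.prime_dvd_prime_iff_eq hr Nat.prime_two).1 (hr.dvd_of_dvd_pow (n := a) ?_))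
      exact hk ▸ hd.mul_left 4
    · rw [ha, ← pow_succ] at hk
      refine hr2 ((Nat.prime_dvd_prime_iff_eq hr Nat.prime_two).1 (hr.dvd_of_dvd_pow (n := a + 1) ?_))
      exact hk ▸ hd.mul_left 4
    · have hcomm := comm_of_many_sq (G := U) (by
        have hsub : ((insert (1 : U) (insert tU J) : Finset U) : Set U) ⊆ {x : U | x ^ 2 = 1} := by
          intro w hw
          simp only [Finset.coe_insert, Set.mem_insert_iff, Finset.mem_coe] at hw
          rcases hw with rfl | rfl | hw
          · exact one_pow 2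
          · exact hιinj (by rw [map_pow, hιtU, ht2, map_one])
          · exact hιinj (by rw [map_pow, map_one]; exact (hfour w hw).2.2.2.2.1)
        have h1 := Set.ncard_le_ncard hsub
        rw [Set.ncard_coe_finset] at h1
        have h2 : J.card + 2 = (insert (1 : U) (insert tU J)).card := by
          rw [Finset.card_insert_of_notMem, Finset.card_insert_of_notMem]
          · exact fun h => (hfour _ h).2.2.1 hιtU.symm
          · simp only [Finset.mem_insert, not_or]
            exact ⟨fun h => ht1 (by rw [← hιtU, ← h, map_one]), fun h => (hfour _ h).2.1 (map_one ι)⟩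
        omega)
      have hU4 : Nat.card U = 4 := by
        rw [← hcent eU heJ, show Subgroup.centralizer ({eU} : Set U) = ⊤ from
          eq_top_iff.2 fun w _ => Subgroup.mem_centralizer_singleton_iff.2 (hcomm w eU),
          Subgroup.card_top]
      omega
  -- the fixed point
  obtain ⟨cj, hcj⟩ : ∃ cj : MulAut U, cj = MulAut.conjNormal x := ⟨_, rfl⟩
  have hcjι : ∀ u : U, ι (cj u) = (x : G) * ι u * (x : G)⁻¹ := fun u => by
    rw [hι, hcj]
    show (((MulAut.conjNormal x u : U) : Subgroup.centralizer ({t} : Set G)) : G) = _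
    rw [MulAut.conjNormal_apply]
    rfl
  have hJinv : ∀ u, cj u ∈ J ↔ u ∈ J := by
    have key : ∀ u : U, Four t (ι u) ↔ Four t (ι (cj u)) := fun u => by
      have e1 : MulAut.conj (x : G) t = t := by
        rw [MulAut.conj_apply, hxt, mul_inv_cancel_right]
      have hf := (MulAut.conj (x : G)).injective
      constructor
      · intro h
        have := h.map (MulAut.conj (x : G)).toMonoidHom hf
        simp only [MulEquiv.toMonoidHom_eq_coe, MonoidHom.coe_coe, e1, MulAut.conj_apply, ← hcjι] at this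
        exact this
      · intro h
        have hx' : MulAut.conj (x : G)⁻¹ t = t := by
          rw [MulAut.conj_apply, inv_inv, mul_assoc, ← hxt, inv_mul_cancel_left]
        have := h.map (MulAut.conj (x : G)⁻¹).toMonoidHom (MulAut.conj (x : G)⁻¹).injective
        simp only [MulEquiv.toMonoidHom_eq_coe, MonoidHom.coe_coe, hx', MulAut.conj_apply, hcjι,
          inv_inv, mul_assoc, inv_mul_cancel, mul_one, inv_mul_cancel_left] at this
        exact this
    exact fun u => ⟨fun h => hJmem u ((key u).2 (hfour _ h)), fun h => hJmem _ ((key u).1 (hfour _ h))⟩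
  obtain ⟨σ, hσ⟩ : ∃ σ : Equiv.Perm {u : U // u ∈ J}, σ = cj.toEquiv.subtypeEquiv fun u => (hJinv u).symm :=
    ⟨_, rfl⟩
  have hcjr : cj ^ r = 1 := by
    rw [hcj, ← map_pow, show x ^ r = 1 from hx ▸ pow_orderOf_eq_one x, map_one]
  have hσpow : ∀ (n : ℕ) (u : {u : U // u ∈ J}), (((σ ^ n) u).1) = (cj ^ n) u.1 := by
    intro n
    induction n with
    | zero => intro u; rfl
    | succ n ih =>
      intro u
      rw [pow_succ', pow_succ', Equiv.Perm.mul_apply, MulAut.mul_apply, ← ih u]
      generalize (σ ^ n) u = w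
      rw [hσ]
      rfl
  obtain ⟨u, hu⟩ := Equiv.Perm.exists_fixed_point_of_prime (p := r) (n := 1)
    (by rw [Fintype.card_coe]; exact hJr) (σ := σ) (Equiv.ext fun u => Subtype.ext (by
      rw [pow_one, hσpow, hcjr]; rfl))
  have hfix : cj u.1 = u.1 := by
    have := congrArg Subtype.val hu
    rw [hσ] at this
    exact this
  have := congrArg ι hfix
  rw [hcjι, mul_inv_eq_iff_eq_mul] at this
  exact hnofix _ (hfour _ u.2) this

end Cfsg.Agent.Solv.SelfCentralizing
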