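import Cfsg.Agent.Lib.Solv.SelfCentralizing.Cases
import Cfsg.Agent.Lib.Solv.CIT.Main

/-!
Simple groups with self-centralizing non-cyclic subgroups, from the list of simple groups with `2`-group
involution centralizers.
-/

set_option autoImplicit false

namespace Cfsg.Agent.Solv.SelfCentralizing

universe u

/-- A non-abelian simple group has self-centralizing non-cyclic subgroups exactly if it is `PSL₂(q)`,
`q = 4, 9` or a Fermat or Mersenne prime. -/
theorem iff_main {G : Type u} [Group G] [Finite G] [IsSimpleGroup G] (hna : ¬ IsMulCommutative G) :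
    (∀ H : Subgroup G, ¬ IsCyclic ↥H → Subgroup.centralizer (H : Set G) ≤ H) ↔
    ∃ (F : Type) (_ : Field F) (_ : Fintype F),
      (Fintype.card F = 4 ∨ Fintype.card F = 9 ∨ ((Fintype.card F).Prime ∧ ∃ k : ℕ, Fintype.card F = 2 ^ k + 1 ∨ Fintype.card F = 2 ^ k - 1)) ∧
      Nonempty (G ≃* Matrix.ProjectiveSpecialLinearGroup (Fin 2) F) := by
  refine ⟨fun h => ?_, fun ⟨F, _, _, hc, ⟨e⟩⟩ => Prop'.of_equiv e (psl hc)⟩
  refine Prop'.pin hna h (CITGroups.cit_classification ?_ (Prop'.cit h hna) (Prop'.two_dvd h hna))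
  by_contra hc
  push Not at hc
  exact hna ⟨⟨hc⟩⟩

end Cfsg.Agent.Solv.SelfCentralizing
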