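import Cfsg.Agent.Lib.Small.SL2.ClassSize
import Cfsg.Agent.Lib.Small.SL2.Torus

/-!
In `PSL₂(q)`, `q = 4, 9` or a Fermat or Mersenne prime, every non-cyclic subgroup contains its centralizer.
-/

set_option autoImplicit false

namespace Cfsg.Agent.Solv.SelfCentralizing

open Cfsg.Agent.Small Cfsg.Agent.Small.SL2C

/-- Every non-cyclic subgroup contains its centralizer. -/
def Prop' (G : Type*) [Group G] : Prop :=
  ∀ H : Subgroup G, ¬ IsCyclic H → Subgroup.centralizer (H : Set G) ≤ H

theorem Prop'.of_equiv {G H : Type*} [Group G] [Group H] (e : G ≃* H) (h : Prop' H) : Prop' G := by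
  intro A hA x hx
  have hA' : ¬ IsCyclic (A.map e.toMonoidHom) := fun hc => hA
    ((MulEquiv.isCyclic (A.equivMapOfInjective e.toMonoidHom e.injective)).2 hc)
  have hx' : e x ∈ Subgroup.centralizer ((A.map e.toMonoidHom : Subgroup H) : Set H) :=
    Subgroup.mem_centralizer_iff.2 (by
      rintro _ ⟨a, ha, rfl⟩
      show e a * e x = e x * e a
      rw [← map_mul, ← map_mul, Subgroup.mem_centralizer_iff.1 hx a ha])
  obtain ⟨a, ha, e'⟩ := h _ hA' hx'
  exact (e.injective e' : a = x) ▸ ha

theorem eq_of_mem_cyclic {G : Type*} [Group G] [Finite G] {C : Subgroup G} (hC : IsCyclic C) {a b : G}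
    (ha : a ∈ C) (hb : b ∈ C) (ha1 : a ≠ 1) (hb1 : b ≠ 1) (ha2 : a ^ 2 = 1) (hb2 : b ^ 2 = 1) :
    a = b := by
  classical
  haveI := Fintype.ofFinite C
  haveI := hC
  by_contra hne
  have h := IsCyclic.card_pow_eq_one_le (α := C) (n := 2) two_pos
  have hsub : ({1, ⟨a, ha⟩, ⟨b, hb⟩} : Finset C) ⊆ Finset.univ.filter fun x => x ^ 2 = 1 := by
    intro x hx
    simp only [Finset.mem_insert, Finset.mem_singleton] at hx
    simp only [Finset.mem_filter, Finset.mem_univ, true_and]
    rcases hx with rfl | rfl | rfl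
    · exact one_pow 2
    · exact Subtype.ext ha2
    · exact Subtype.ext hb2
  have h3 : ({1, ⟨a, ha⟩, ⟨b, hb⟩} : Finset C).card = 3 := by
    rw [Finset.card_insert_of_notMem, Finset.card_insert_of_notMem, Finset.card_singleton]
    · simpa [Subtype.ext_iff] using hne
    · simp [Subtype.ext_iff, Ne.symm ha1, Ne.symm hb1]
  have := (Finset.card_le_card hsub).trans h
  omega

/-- A non-cyclic subgroup of a `2`-group with a cyclic subgroup of index at most two contains the
involution of the cyclic subgroup. -/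
theorem mem_of_cyclic_index {G : Type*} [Group G] [Finite G] {H C T : Subgroup G} (hHC : H ≤ C)
    (hTC : T ≤ C) (hT : IsCyclic T) (hC : IsPGroup 2 C) (hidx : Nat.card C ≤ 2 * Nat.card T)
    {d : G} (hd : d ∈ T) (hd1 : d ≠ 1) (hd2 : d ^ 2 = 1) (hH : ¬ IsCyclic H) : d ∈ H := by
  haveI : Fact (Nat.Prime 2) := ⟨Nat.prime_two⟩
  by_cases hb : H ⊓ T = ⊥
  · exfalso
    refine hH ?_
    have hle : Nat.card H ≤ 2 := by
      have h1 : Nat.card (H × T) ≤ Nat.card C := Nat.card_le_card_of_injective
        (fun x : H × T => (⟨x.1.1 * x.2.1, mul_mem (hHC x.1.2) (hTC x.2.2)⟩ : C)) (by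
          rintro ⟨a, t⟩ ⟨a', t'⟩ e
          have e' : (a : G) * t = a' * t' := congrArg Subtype.val e
          have h2 : (a' : G)⁻¹ * a = t' * (t : G)⁻¹ := by
            rw [eq_mul_inv_iff_mul_eq, mul_assoc, e', inv_mul_cancel_left]
          have h3 : (a' : G)⁻¹ * a ∈ H ⊓ T := Subgroup.mem_inf.2
            ⟨mul_mem (inv_mem a'.2) a.2, h2 ▸ mul_mem t'.2 (inv_mem t.2)⟩
          rw [hb, Subgroup.mem_bot] at h3
          have h4 : (a : G) = a' := (inv_mul_eq_one.1 h3).symm
          refine Prod.ext (Subtype.ext h4) (Subtype.ext ?_)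
          rw [h4] at e'
          exact mul_left_cancel e')
      rw [Nat.card_prod] at h1
      exact Nat.le_of_mul_le_mul_right (h1.trans hidx) Nat.card_pos
    rcases (show Nat.card H = 1 ∨ Nat.card H = 2 by
      have : 0 < Nat.card H := Nat.card_pos
      omega) with h | h
    · haveI := (Nat.card_eq_one_iff_unique.1 h).1
      exact isCyclic_of_subsingleton
    · exact isCyclic_of_prime_card (p := 2) h
  · have hp : IsPGroup 2 (H ⊓ T : Subgroup G) := hC.to_le (inf_le_left.trans hHC)
    haveI : Nontrivial (H ⊓ T : Subgroup G) := (H ⊓ T).nontrivial_iff_ne_bot.2 hb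
    obtain ⟨n, hn, hn'⟩ := hp.nontrivial_iff_card.1 inferInstance
    obtain ⟨z, hz⟩ := exists_prime_orderOf_dvd_card' (G := (H ⊓ T : Subgroup G)) 2
      (hn' ▸ dvd_pow_self 2 hn.ne')
    have hz1 : (z : G) ≠ 1 := fun e => by
      rw [show z = 1 from Subtype.ext e, orderOf_one] at hz
      exact absurd hz (by norm_num)
    have hz2 : (z : G) ^ 2 = 1 := by
      have := pow_orderOf_eq_one z
      rw [hz] at this
      exact congrArg Subtype.val this
    rw [eq_of_mem_cyclic hT hd (Subgroup.mem_inf.1 z.2).2 hd1 hz1 hd2 hz2]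
    exact (Subgroup.mem_inf.1 z.2).1

variable {F : Type*} [Field F] [Fintype F]

local notation "SL2" => Matrix.SpecialLinearGroup (Fin 2) F
local notation "P2" => Matrix.ProjectiveSpecialLinearGroup (Fin 2) F

theorem psl (hq : Fintype.card F = 4 ∨ Fintype.card F = 9 ∨
    ((Fintype.card F).Prime ∧ ∃ k : ℕ, Fintype.card F = 2 ^ k + 1 ∨ Fintype.card F = 2 ^ k - 1)) :
    Prop' P2 := by
  classical
  haveI : Finite P2 := Finite.of_surjective PSL2.pr PSL2.pr_surjective
  intro H hH x hx
  by_cases hx1 : x = 1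
  · exact hx1 ▸ one_mem H
  obtain ⟨g, rfl⟩ := PSL2.pr_surjective x
  have hg : ¬ IsSc g.1 := fun h => hx1 (pr_eq_one_iff.2 h)
  obtain ⟨C, hCdef⟩ : ∃ C, C = Subgroup.centralizer ({PSL2.pr g} : Set P2) := ⟨_, rfl⟩
  have hHC : H ≤ C := fun h hh => hCdef ▸ Subgroup.mem_centralizer_singleton_iff.2
    (Subgroup.mem_centralizer_iff.1 hx h hh)
  have hcard := card_centralizer_pr g hg
  rw [← hCdef] at hcard
  have hgC : PSL2.pr g ∈ C := hCdef ▸ Subgroup.mem_centralizer_singleton_iff.2 rfl
  have hε : Nat.card (Subgroup.center SL2) = 1 ∨ Nat.card (Subgroup.center SL2) = 2 := by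
    by_cases h2 : (2 : F) = 0
    · exact Or.inl (center_card_even h2)
    · exact Or.inr (center_card_odd h2)
  by_cases ht : g.1.trace * g.1.trace = 4
  · -- unipotent
    have hne : ¬ ((2 : F) ≠ 0 ∧ g.1.trace = 0) := by
      rintro ⟨h2, h0⟩
      rw [h0, mul_zero] at ht
      exact mul_ne_zero h2 h2 (by linear_combination -ht)
    rw [if_neg hne, mul_one, sol_parab ht] at hcard
    have hC : Nat.card C = Fintype.card F := by
      by_cases h2 : (2 : F) = 0
      · rw [center_card_even h2, card_sq_one_even h2] at hcard; omega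
      · rw [center_card_odd h2, card_sq_one_odd h2] at hcard; omega
    have hdvd : Nat.card H ∣ Fintype.card F := hC ▸ Subgroup.card_dvd_of_le hHC
    suffices h : Nat.card H = Fintype.card F from
      (Subgroup.eq_of_le_of_card_ge hHC (hC.trans h.symm).le).symm ▸ hgC
    have h1 : Nat.card H ≠ 1 := fun h => hH (by
      haveI := (Nat.card_eq_one_iff_unique.1 h).1
      exact isCyclic_of_subsingleton)
    have hp : ¬ (Nat.card H).Prime := fun h => hH (by
      haveI := Fact.mk h
      exact isCyclic_of_prime_card (p := Nat.card H) rfl)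
    rcases hq with h | h | ⟨h, -⟩
    · rw [h] at hdvd ⊢
      have := Nat.le_of_dvd (by omega) hdvd
      interval_cases (Nat.card H) <;> first | rfl | omega | exact absurd hdvd (by decide) | exact absurd (by norm_num) hp
    · rw [h] at hdvd ⊢
      have := Nat.le_of_dvd (by omega) hdvd
      interval_cases (Nat.card H) <;> first | rfl | omega | exact absurd hdvd (by decide) | exact absurd (by norm_num) hp
    · exact ((Nat.dvd_prime h).1 hdvd).resolve_left h1
  -- semisimple
  obtain ⟨T, hT⟩ : ∃ T, T = (tor g).map PSL2.pr := ⟨_, rfl⟩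
  have hTC : T ≤ C := by
    rw [hT, hCdef]
    rintro _ ⟨a, ha, rfl⟩
    exact Subgroup.mem_centralizer_singleton_iff.2
      (by rw [← map_mul, ← map_mul, Subgroup.mem_centralizer_singleton_iff.1 ha])
  haveI := isCyclic_centralizer ht
  have hTcyc : IsCyclic T := hT ▸ isCyclic_of_surjective ((PSL2.pr).subgroupMap (tor g))
    ((PSL2.pr).subgroupMap_surjective (tor g))
  have hTcard : Nat.card (Subgroup.center SL2) * Nat.card T = sol g.1.trace 1 := by
    rw [← card_centralizer g hg, hT]
    have hker : (PSL2.pr (F := F)).ker = Subgroup.center SL2 := by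
      ext y
      rw [MonoidHom.mem_ker, pr_eq_one_iff, mem_center_iff]
    have hle : Subgroup.center SL2 ≤ tor g := Subgroup.center_le_centralizer _
    have h := Subgroup.card_mul_index ((PSL2.pr (F := F)).domRestrict (tor g)).ker
    rw [Subgroup.index_ker, MonoidHom.domRestrict_range] at h
    rw [← h]
    congr 1
    rw [MonoidHom.ker_domRestrict, hker]
    exact (Nat.card_congr (Subgroup.subgroupOfEquivOfLe hle).toEquiv).symm
  by_cases h0 : (2 : F) ≠ 0 ∧ g.1.trace = 0
  · -- involution
    obtain ⟨h2, h0⟩ := h0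
    rw [if_pos ⟨h2, h0⟩, center_card_odd h2] at hcard
    rw [center_card_odd h2] at hTcard
    have hC : Nat.card C = sol g.1.trace 1 := by omega
    have hpow : ∃ m, sol g.1.trace 1 = 2 ^ m := by
      have hr := roots_zero_iff (F := F) h2
      have hodd : Odd (Fintype.card F) := Nat.odd_iff.2 (Nat.two_dvd_ne_zero.1 (not_two_dvd_iff.2 h2))
      have hcases : (Fintype.card F % 4 ≠ 3 → ∃ m, Fintype.card F - 1 = 2 ^ m) ∧
          (Fintype.card F % 4 = 3 → ∃ m, Fintype.card F + 1 = 2 ^ m) := by
        rcases hq with h | h | ⟨hpr, k, h | h⟩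
        · rw [h] at hodd; exact absurd hodd (by decide)
        · exact ⟨fun _ => ⟨3, by omega⟩, fun h' => by omega⟩
        · refine ⟨fun _ => ⟨k, Nat.sub_eq_of_eq_add h⟩, fun h' => ?_⟩
          rcases k with _ | _ | k
          · simp at h; omega
          · exact ⟨2, by omega⟩
          · rw [pow_succ, pow_succ] at h; omega
        · refine ⟨fun h' => ?_, fun _ => ⟨k, by
            have := Nat.two_pow_pos k
            omega⟩⟩
          rcases k with _ | _ | k
          · simp at h; first | omega | done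
          · have := hpr.two_le; omega
          · rw [pow_succ, pow_succ] at h
            have := Nat.two_pow_pos k
            omega
      rcases sol_eq ht with ⟨hr', hs⟩ | ⟨hr', hs⟩ <;> rw [hs]
      · exact hcases.1 (hr.1 (h0 ▸ hr'))
      · refine hcases.2 ?_
        by_contra hne
        rw [h0, hr.2 hne] at hr'
        omega
    obtain ⟨m, hm⟩ := hpow
    refine mem_of_cyclic_index hHC hTC hTcyc (IsPGroup.of_card (p := 2) (hC.trans hm)) (by omega)
      (hT ▸ ⟨g, self_mem_tor g, rfl⟩) hx1 ?_ hH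
    rw [← map_pow, pr_eq_one_iff]
    refine ⟨-1, ?_⟩
    rw [pow_two, val_mul', sq_eq, h0, zero_smul, zero_sub, neg_one_smul]
  · rw [if_neg h0, mul_one] at hcard
    have hCT : T = C := Subgroup.eq_of_le_of_card_ge hTC (by
      rw [← hTcard] at hcard
      exact le_of_eq (Nat.eq_of_mul_eq_mul_left Nat.card_pos hcard))
    refine absurd ?_ hH
    haveI : IsCyclic C := hCT ▸ hTcyc
    exact isCyclic_of_injective (Subgroup.inclusion hHC) (Subgroup.inclusion_injective hHC)

end Cfsg.Agent.Solv.SelfCentralizing
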